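import Groth.Agent.Lib.RGamma.Soft
import Groth.Agent.Lib.HDIRestrict3.Flat
import Groth.Agent.Lib.Excellent.FormalFibres
import Groth.Agent.Lib.FSchSys.ComplFlat
import Groth.Agent.Lib.HLVT.ComplDim
import Mathlib.RingTheory.Ideal.AssociatedPrime.Localization

/-!
# Torsion elements of `A/I^n` from a component of the completion
-/

set_option autoImplicit false
set_option linter.style.haveILetI false
universe u

open IsLocalRing TensorProduct

namespace GrothLib.CdDual3

variable {A : Type u} [CommRing A] [IsNoetherianRing A] [IsLocalRing A]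

local notation "Ah" => AdicCompletion (maximalIdeal A) A

instance faithfullyFlat_completion : Module.FaithfullyFlat A Ah :=
  GrothLib.Excellent.faithfullyFlat_cpl A

/-- Torsion in a completed module comes from the module. -/
theorem exists_one_tmul_eq (M : Type u) [AddCommGroup M] [Module A M] (x : Ah ⊗[A] M)
    (hx : x ∈ DRing.torsionSub (maximalIdeal A) (Ah ⊗[A] M)) :
    ∃ t ∈ DRing.torsionSub (maximalIdeal A) M, (1 : Ah) ⊗ₜ[A] t = x := by
  have H := GrothLib.HDIRestrict3.mem_range_lTensor_torsionSub (maximalIdeal A) M x hx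
  obtain ⟨z, rfl⟩ := H
  clear hx
  induction z using TensorProduct.induction_on with
  | zero => exact ⟨0, zero_mem _, by rw [TensorProduct.tmul_zero, map_zero]⟩
  | add z z' h h' =>
    obtain ⟨t, ht, e⟩ := h
    obtain ⟨t', ht', e'⟩ := h'
    exact ⟨t + t', add_mem ht ht', by rw [TensorProduct.tmul_add, e, e', map_add]⟩
  | tmul b t =>
    obtain ⟨k, hk⟩ := t.2
    obtain ⟨s, hs⟩ := Ideal.Quotient.mk_surjective (AdicCompletion.evalₐ (maximalIdeal A) k b)
    have hb : b - algebraMap A Ah s ∈ ((maximalIdeal A) ^ k).map (algebraMap A Ah) := by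
      rw [← GrothLib.FSchSys.ker_evalₐ (maximalIdeal A) (IsNoetherian.noetherian _) k, RingHom.mem_ker,
        map_sub, sub_eq_zero]
      exact (hs.symm.trans ((AdicCompletion.evalₐ (maximalIdeal A) k).commutes s).symm)
    refine ⟨s • t.1, Submodule.smul_mem _ s t.2, ?_⟩
    have h0 : (b - algebraMap A Ah s) ⊗ₜ[A] (t.1 : M) = 0 := by
      rw [Ideal.map] at hb
      refine Submodule.span_induction (p := fun r _ => r ⊗ₜ[A] (t.1 : M) = 0) ?_ ?_ ?_ ?_ hb
      · rintro _ ⟨a, ha, rfl⟩
        rw [Algebra.algebraMap_eq_smul_one, TensorProduct.smul_tmul, hk a ha, TensorProduct.tmul_zero]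
      · exact TensorProduct.zero_tmul _ _
      · intro r r' _ _ hr hr'
        rw [TensorProduct.add_tmul, hr, hr', add_zero]
      · intro c r _ hr
        rw [← TensorProduct.smul_tmul', hr, smul_zero]
    rw [TensorProduct.sub_tmul, sub_eq_zero] at h0
    rw [LinearMap.lTensor_tmul, Submodule.subtype_apply, h0, Algebra.algebraMap_eq_smul_one,
      TensorProduct.smul_tmul]

/-- A component of the completion disjoint from `V(I)` off the closed point gives torsion elements of the
quotients `A/I^n`. -/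
theorem exists_torsion_family (I : Ideal A) (hI : I ≠ ⊤) (p : Ideal Ah) (hp : p ∈ minimalPrimes Ah)
    (N : ℕ) (hN : (maximalIdeal Ah) ^ N ≤ I.map (algebraMap A Ah) ⊔ p) :
    ∃ t : ∀ n, A ⧸ I ^ n, (∀ n m (h : n ≤ m), Submodule.factor (Ideal.pow_le_pow_right h) (t m) = t n) ∧
      (∀ n, t n ∈ DRing.torsionSub (maximalIdeal A) (A ⧸ I ^ n)) ∧ ∃ n, t n ≠ 0 := by
  haveI : IsNoetherianRing Ah :=
    GrothLib.AdicExtra.isNoetherianRing_adicCompletion_of_fg (maximalIdeal A) (IsNoetherian.noetherian _)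
  have hass : p ∈ associatedPrimes Ah Ah := by
    refine Module.associatedPrimes.minimalPrimes_annihilator_subset_associatedPrimes Ah Ah ?_
    rw [Module.annihilator_eq_bot.2 inferInstance]
    exact hp
  obtain ⟨hprime, a, ha⟩ := isAssociatedPrime_iff.1 hass
  have ha0 : a ≠ 0 := fun h => hprime.ne_top (ha.trans ((Ideal.eq_top_iff_one _).2
    (Submodule.mem_colon_singleton.2 (by rw [h, smul_zero]; exact zero_mem _))))
  have hann : ∀ q ∈ p, q * a = 0 := fun q hq => by
    rw [ha, Submodule.mem_colon_singleton, Submodule.mem_bot] at hq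
    exact hq
  have hmem : ∀ n, ∀ r ∈ (I.map (algebraMap A Ah) ⊔ p) ^ n, r * a ∈ (I ^ n).map (algebraMap A Ah) := by
    intro n r hr'
    have hle : (I.map (algebraMap A Ah) ⊔ p) ^ n ≤ (I.map (algebraMap A Ah)) ^ n ⊔ p := by
      clear hr'
      induction n with
      | zero => rw [pow_zero, pow_zero, Ideal.one_eq_top, top_sup_eq]
      | succ n ih =>
        rw [pow_succ, pow_succ]
        refine (Ideal.mul_mono_left ih).trans ?_
        rw [Ideal.sup_mul, Ideal.mul_sup]
        exact sup_le (sup_le le_sup_left (Ideal.mul_le_right.trans le_sup_right))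
          (Ideal.mul_le_left.trans le_sup_right)
    obtain ⟨y, hy, q, hq, rfl⟩ := Submodule.mem_sup.1 (hle hr')
    rw [add_mul, hann q hq, add_zero, Ideal.map_pow]
    exact Ideal.mul_mem_right _ _ hy
  have hzero : ∀ n, ∀ y ∈ (I ^ n).map (algebraMap A Ah),
      y ⊗ₜ[A] (Ideal.Quotient.mk (I ^ n) 1 : A ⧸ I ^ n) = 0 := by
    intro n y hy
    rw [Ideal.map] at hy
    refine Submodule.span_induction
      (p := fun r _ => r ⊗ₜ[A] (Ideal.Quotient.mk (I ^ n) 1 : A ⧸ I ^ n) = 0) ?_ ?_ ?_ ?_ hy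
    · rintro _ ⟨i, hi, rfl⟩
      have h0 : i • (Ideal.Quotient.mk (I ^ n) 1 : A ⧸ I ^ n) = 0 := by
        change Ideal.Quotient.mk (I ^ n) (i * 1) = 0
        rw [mul_one, Ideal.Quotient.eq_zero_iff_mem]
        exact hi
      rw [Algebra.algebraMap_eq_smul_one, TensorProduct.smul_tmul, h0, TensorProduct.tmul_zero]
    · exact TensorProduct.zero_tmul _ _
    · intro r r' _ _ hr hr'
      rw [TensorProduct.add_tmul, hr, hr', add_zero]
    · intro c r _ hr
      rw [← TensorProduct.smul_tmul', hr, smul_zero]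
  have htor : ∀ n, a ⊗ₜ[A] (Ideal.Quotient.mk (I ^ n) 1 : A ⧸ I ^ n) ∈
      DRing.torsionSub (maximalIdeal A) (Ah ⊗[A] (A ⧸ I ^ n)) := fun n => by
    refine ⟨N * n, fun r hr => ?_⟩
    rw [TensorProduct.smul_tmul', Algebra.smul_def]
    refine hzero n _ (hmem n _ ?_)
    refine Ideal.pow_right_mono hN n ?_
    rw [← pow_mul, AdicCompletion.maximalIdeal_eq_map, ← Ideal.map_pow]
    exact Ideal.mem_map_of_mem _ hr
  choose t ht hte using fun n => exists_one_tmul_eq (A ⧸ I ^ n) _ (htor n)
  refine ⟨t, fun n m h => ?_, ht, ?_⟩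
  · apply Module.FaithfullyFlat.tensorProduct_mk_injective (A := A) (B := Ah) (A ⧸ I ^ n)
    have := congrArg ((Submodule.factor (Ideal.pow_le_pow_right h : I ^ m ≤ I ^ n)).lTensor Ah) (hte m)
    rw [LinearMap.lTensor_tmul, LinearMap.lTensor_tmul] at this
    exact this.trans (hte n).symm
  · by_contra hall
    push Not at hall
    refine ha0 ?_
    have hle : I.map (algebraMap A Ah) ≠ ⊤ := GrothLib.HLVT.map_ne_top_completion hI
    have hk := Ideal.iInf_pow_eq_bot_of_isLocalRing _ hle
    rw [← Submodule.mem_bot (R := Ah), ← hk, Submodule.mem_iInf]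
    intro n
    let g : (A ⧸ I ^ n) →ₗ[A] Ah ⧸ (I.map (algebraMap A Ah)) ^ n :=
      (I ^ n).liftQ (LinearMap.toSpanSingleton A _ 1) fun i hi => by
        rw [LinearMap.mem_ker, LinearMap.toSpanSingleton_apply]
        change Ideal.Quotient.mk _ (i • (1 : Ah)) = 0
        rw [Ideal.Quotient.eq_zero_iff_mem, ← Algebra.algebraMap_eq_smul_one, ← Ideal.map_pow]
        exact Ideal.mem_map_of_mem _ hi
    have h1 : g.liftBaseChange Ah (a ⊗ₜ[A] (Ideal.Quotient.mk (I ^ n) 1 : A ⧸ I ^ n)) = 0 := by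
      rw [← hte n, hall n, TensorProduct.tmul_zero, map_zero]
    rw [LinearMap.liftBaseChange_tmul] at h1
    change a • ((1 : A) • (1 : Ah ⧸ (I.map (algebraMap A Ah)) ^ n)) = 0 at h1
    rw [one_smul] at h1
    rw [Algebra.smul_def, mul_one] at h1
    exact Ideal.Quotient.eq_zero_iff_mem.1 h1

end GrothLib.CdDual3
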