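import Groth.Agent.Lib.CdDual3.Compl
import Groth.Agent.Lib.DualCx22.FiniteLengthTriangle
import Groth.Agent.Lib.DualCx22.LocalCohD
import Groth.Agent.S0332
import Groth.Agent.Lib.HLVT.Ara

/-!
# Vanishing of the top local cohomology through a dualizing complex
-/

set_option autoImplicit false
set_option linter.style.haveILetI false
universe u

open CategoryTheory CategoryTheory.Limits CategoryTheory.Pretriangulated IsLocalRing Opposite

attribute [local instance] HasDerivedCategory.standard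

namespace GrothLib.CdDual3

open GrothLib.DualCx22

variable {A : Type u} [CommRing A] [IsNoetherianRing A] [IsLocalRing A]

/-- `Ext^1(Q, ω) = 0` for finite modules. -/
theorem subsingleton_hom_one {ω : Dual.D A} (hω : Dual.IsDualizing A ω) (hn : Dual.IsNormalized A ω)
    {E : Type u} [AddCommGroup E] [Module A E] {f : ResidueField A →ₗ[A] E} (hf : InjHull.IsInjectiveHull f)
    (Q : Type u) [AddCommGroup Q] [Module A Q] [Module.Finite A Q] :
    Subsingleton (Dual.inD A Q ⟶ ω⟦(1 : ℤ)⟧) := by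
  obtain ⟨e⟩ := nonempty_local_duality hω hn hf (Dual.inD A Q) (finite_HD_inD Q) (-1)
  haveI : Subsingleton (Dual2.HDI A (maximalIdeal A) (Dual.inD A Q) (-1)) := by
    refine subsingleton_of_forall_eq 0 fun z => ?_
    obtain ⟨i, φ, rfl⟩ := Concrete.colimit_exists_rep _ z
    haveI : Subsingleton (Dual.inD A (A ⧸ (maximalIdeal A) ^ i.unop.unop) ⟶ (Dual.inD A Q)⟦(-1 : ℤ)⟧) :=
      subsingleton_hom_of_isLE (Dual.inD A Q) 0 _ 0 (-1) (by norm_num)
    rw [Subsingleton.elim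
      (α := Dual.inD A (A ⧸ (maximalIdeal A) ^ i.unop.unop) ⟶ (Dual.inD A Q)⟦(-1 : ℤ)⟧) φ 0]
    exact map_zero _
  obtain ⟨N, _, ⟨eN⟩⟩ := exists_finite_hom_equiv hω (Dual.inD A Q) (finite_HD_inD Q) (-(-1 : ℤ))
  haveI : Subsingleton ((Dual.inD A Q ⟶ ω⟦(-(-1) : ℤ)⟧) →ₗ[A] E) := e.symm.toEquiv.subsingleton
  haveI : Subsingleton (N →ₗ[A] E) := (eN.congrLeft E A).toEquiv.subsingleton
  haveI : Subsingleton N := (subsingleton_dual_iff hf N).1 inferInstance
  exact (show Subsingleton (Dual.inD A Q ⟶ ω⟦(-(-1) : ℤ)⟧) from eN.symm.toEquiv.subsingleton)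

theorem isFiniteLength_of_killed (M : Type u) [AddCommGroup M] [Module A M] [Module.Finite A M] (K : ℕ)
    (h : ∀ a ∈ (maximalIdeal A) ^ K, ∀ x : M, a • x = 0) : IsFiniteLength A M := by
  haveI : IsArtinian A M := (GrothLib.LC.finite_iff_isArtinian_of_pow_smul (maximalIdeal A) (N := K) h).1 inferInstance
  exact isFiniteLength_iff_isNoetherian_isArtinian.2 ⟨inferInstance, inferInstance⟩

/-- A compatible family of torsion elements of `A/I^n` detects `H^0_I(ω)`. -/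
theorem false_of_family {ω : Dual.D A} (hω : Dual.IsDualizing A ω) (hn : Dual.IsNormalized A ω) (I : Ideal A)
    (h0 : Subsingleton (Dual2.HDI A I ω 0)) (t : ∀ n, A ⧸ I ^ n)
    (hc : ∀ n m (h : n ≤ m), Submodule.factor (Ideal.pow_le_pow_right h) (t m) = t n)
    (ht : ∀ n, t n ∈ DRing.torsionSub (maximalIdeal A) (A ⧸ I ^ n)) (n₀ : ℕ) (hne : t n₀ ≠ 0) : False := by
  obtain ⟨E, _, _, f, hf⟩ := GrothLib.InjMod.exists_injective_hull (R := A) (ResidueField A)
  let F := DerivedCategory.singleFunctor (ModuleCat.{u} A) 0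
  let L : Submodule A (A ⧸ I ^ n₀) := Submodule.span A {t n₀}
  let x₀ : L := ⟨t n₀, Submodule.mem_span_singleton_self _⟩
  obtain ⟨K₀, hK₀⟩ := ht n₀
  have hLtor : LocCoh.IsPowerTorsion (maximalIdeal A) L := fun x => by
    obtain ⟨c, hc⟩ := Submodule.mem_span_singleton.1 x.2
    exact ⟨K₀, fun a ha => Subtype.ext (by
      change a • x.1 = 0
      rw [← hc, smul_comm, hK₀ a ha, smul_zero])⟩
  obtain ⟨e⟩ := nonempty_hom_torsion hω hn hf L hLtor
  obtain ⟨φ, hφ⟩ := GrothLib.Matlis.exists_apply_ne_zero hf (x := x₀) (fun h => hne (congrArg Subtype.val h))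
  let ξ : Dual.inD A L ⟶ ω⟦(0 : ℤ)⟧ := e φ
  have hξ : ξ ≠ 0 := fun h => hφ (by rw [e.map_eq_zero_iff.1 h, LinearMap.zero_apply])
  let S : ShortComplex (ModuleCat.{u} A) :=
    ShortComplex.mk (ModuleCat.ofHom L.subtype) (ModuleCat.ofHom L.mkQ)
      (ModuleCat.hom_ext (LinearMap.ext fun x => (Submodule.Quotient.mk_eq_zero L).2 x.2))
  have hS : S.ShortExact :=
    { exact := (ShortComplex.moduleCat_exact_iff _).2 fun x hx =>
        ⟨⟨x, (Submodule.Quotient.mk_eq_zero L).1 hx⟩, rfl⟩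
      mono_f := (ModuleCat.mono_iff_injective _).2 Subtype.val_injective
      epi_g := (ModuleCat.epi_iff_surjective _).2 (Submodule.mkQ_surjective L) }
  haveI := subsingleton_hom_one hω hn hf ((A ⧸ I ^ n₀) ⧸ L)
  haveI : Subsingleton (hS.singleTriangle.invRotate.obj₁ ⟶ ω⟦(0 : ℤ)⟧) :=
    (homShiftLEquiv (Dual.inD A ((A ⧸ I ^ n₀) ⧸ L)) ω (-1) 0 1 (by omega)).toEquiv.subsingleton
  obtain ⟨ψ, hψ⟩ := hS.singleTriangle.invRotate.yoneda_exact₂
    (inv_rot_of_distTriang _ hS.singleTriangle_distinguished) ξ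
    (Subsingleton.elim (α := hS.singleTriangle.invRotate.obj₁ ⟶ ω⟦(0 : ℤ)⟧) _ _)
  let D := GrothLib.RGamma.diag I (ω⟦(0 : ℤ)⟧)
  let i₀ : (ℕᵒᵖ)ᵒᵖ := op (op n₀)
  haveI : Subsingleton ((colimit D : ModuleCat.{u + 1} A)) := h0
  obtain ⟨j, g, g', hg⟩ := Concrete.colimit_exists_of_rep_eq D (i := i₀) (j := i₀) (show D.obj i₀ from ψ)
    (0 : D.obj i₀) (Subsingleton.elim _ _)
  rw [map_zero] at hg
  have hg1 : F.map (GrothLib.RGamma.qpHom I g) ≫ ψ = 0 := hg
  have hle : n₀ ≤ j.unop.unop := leOfHom g.unop.unop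
  obtain ⟨K₁, hK₁⟩ := ht j.unop.unop
  let K := K₁ + K₀
  let s : (A ⧸ (maximalIdeal A) ^ K) →ₗ[A] (A ⧸ I ^ j.unop.unop) :=
    ((maximalIdeal A) ^ K).liftQ (LinearMap.toSpanSingleton A _ (t j.unop.unop))
      fun a ha => hK₁ a (Ideal.pow_le_pow_right (Nat.le_add_right _ _) ha)
  let q : (A ⧸ (maximalIdeal A) ^ K) →ₗ[A] L :=
    ((maximalIdeal A) ^ K).liftQ (LinearMap.toSpanSingleton A L x₀)
      fun a ha => Subtype.ext (hK₀ a (Ideal.pow_le_pow_right (Nat.le_add_left _ _) ha))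
  have hsq : ModuleCat.ofHom s ≫ GrothLib.RGamma.qpHom I g = ModuleCat.ofHom q ≫ S.f := by
    refine ModuleCat.hom_ext (Submodule.linearMap_qext _ (LinearMap.ext_ring ?_))
    change (GrothLib.RGamma.qpHom I g).hom ((1 : A) • t j.unop.unop) = (1 : A) • t n₀
    rw [one_smul, one_smul]
    refine Eq.trans ?_ (hc n₀ j.unop.unop hle)
    generalize t j.unop.unop = z
    obtain ⟨z, rfl⟩ := Submodule.Quotient.mk_surjective _ z
    rfl
  have hqξ : F.map (ModuleCat.ofHom q) ≫ ξ = 0 := by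
    calc F.map (ModuleCat.ofHom q) ≫ ξ = F.map (ModuleCat.ofHom q) ≫ F.map S.f ≫ ψ := congrArg (_ ≫ ·) hψ
      _ = F.map (ModuleCat.ofHom s) ≫ F.map (GrothLib.RGamma.qpHom I g) ≫ ψ := by
          rw [← Category.assoc, ← Category.assoc, ← F.map_comp, ← F.map_comp, hsq]
      _ = 0 := by rw [hg1, comp_zero]
  let T : ShortComplex (ModuleCat.{u} A) :=
    ShortComplex.mk (ModuleCat.ofHom (LinearMap.ker q).subtype) (ModuleCat.ofHom q)
      (ModuleCat.hom_ext (LinearMap.ext fun x => x.2))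
  have hT : T.ShortExact :=
    { exact := (ShortComplex.moduleCat_exact_iff _).2 fun x hx => ⟨⟨x, hx⟩, rfl⟩
      mono_f := (ModuleCat.mono_iff_injective _).2 Subtype.val_injective
      epi_g := (ModuleCat.epi_iff_surjective _).2 fun y => by
        obtain ⟨c, hc⟩ := Submodule.mem_span_singleton.1 y.2
        exact ⟨Submodule.Quotient.mk c, Subtype.ext hc⟩ }
  haveI := (hom_finiteLength hω hn (LinearMap.ker q) (isFiniteLength_of_killed _ K fun a ha x => Subtype.ext (by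
    change a • x.1 = 0
    obtain ⟨y, hy⟩ := Submodule.Quotient.mk_surjective _ x.1
    rw [← hy, ← Submodule.Quotient.mk_smul, Submodule.Quotient.mk_eq_zero]
    exact Ideal.mul_mem_right _ _ ha))).1 (-1) (by norm_num)
  obtain ⟨η, hη⟩ := hT.singleTriangle.yoneda_exact₃ hT.singleTriangle_distinguished ξ hqξ
  haveI : Subsingleton ((Dual.inD A (LinearMap.ker q))⟦(1 : ℤ)⟧ ⟶ ω⟦(0 : ℤ)⟧) :=
    (homShiftLEquiv (Dual.inD A (LinearMap.ker q)) ω 1 0 (-1) (by omega)).toEquiv.subsingleton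
  apply hξ
  refine hη.trans ?_
  rw [Subsingleton.elim (α := (Dual.inD A (LinearMap.ker q))⟦(1 : ℤ)⟧ ⟶ ω⟦(0 : ℤ)⟧) η 0]
  exact comp_zero

omit [IsNoetherianRing A] [IsLocalRing A] in
theorem exists_maximalIdeal_pow_le {R : Type u} [CommRing R] [IsLocalRing R] [IsNoetherianRing R] (J : Ideal R)
    (h : ¬ (1 : WithBot ℕ∞) ≤ ringKrullDim (R ⧸ J)) : ∃ N, (maximalIdeal R) ^ N ≤ J := by
  refine Ideal.exists_pow_le_of_le_radical_of_fg ?_ (IsNoetherian.noetherian _)
  rw [Ideal.radical_eq_sInf]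
  refine le_sInf fun Q ⟨hJQ, hQ⟩ => ?_
  haveI := hQ
  by_contra hQm
  refine h ?_
  have hlt : Q < maximalIdeal R := lt_of_le_of_ne (le_maximalIdeal hQ.ne_top) fun e => hQm e.ge
  have h1 := GrothLib.HLVT.ringKrullDim_quotient_add_one_le hlt
  rw [ringKrullDim_eq_zero_of_isField
    ((Ideal.Quotient.maximal_ideal_iff_isField_quotient _).1 inferInstance), zero_add] at h1
  exact h1.trans (ringKrullDim_le_of_surjective (Ideal.Quotient.factor hJQ) (Ideal.Quotient.factor_surjective hJQ))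

/-- `cd(I) < dim A` if `H^0_I(ω) = 0`. -/
theorem subsingleton_H_of_HDI_zero {ω : Dual.D A} (hω : Dual.IsDualizing A ω) (hn : Dual.IsNormalized A ω)
    (I : Ideal A) (h0 : Subsingleton (Dual2.HDI A I ω 0)) (M : Type u) [AddCommGroup M] [Module A M] (i : ℕ)
    (hi : ringKrullDim A ≤ (i : WithBot ℕ∞)) : Subsingleton (LocCoh.H I i M) := by
  by_cases hI : I = ⊤
  · subst hI
    exact GrothLib.LC.subsingleton_H_zero_ideal_top i (ModuleCat.of A M)
  obtain ⟨d, hd⟩ : ∃ d : ℕ, ringKrullDim A = d := by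
    obtain ⟨d, hd⟩ := ENat.ne_top_iff_exists.1
      (Ideal.height_ne_top (I := maximalIdeal A) Ideal.IsPrime.ne_top')
    exact ⟨d, by rw [← IsLocalRing.maximalIdeal_height_eq_ringKrullDim, ← hd]; rfl⟩
  refine Groth.Agent.S0332.result A I d hd (fun p hp _ => ?_) M i (by rw [hd] at hi; exact_mod_cast hi)
  by_contra hdim
  haveI : IsNoetherianRing (AdicCompletion (maximalIdeal A) A) :=
    GrothLib.AdicExtra.isNoetherianRing_adicCompletion_of_fg (maximalIdeal A) (IsNoetherian.noetherian _)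
  obtain ⟨N, hN⟩ := exists_maximalIdeal_pow_le _ hdim
  obtain ⟨t, hc, ht, n, hne⟩ := exists_torsion_family I hI p hp N hN
  exact false_of_family hω hn I h0 t hc ht n hne

end GrothLib.CdDual3
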